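import Groth.Agent.S0346
import Groth.Agent.Triage.SchDense
import Groth.Prelude.Def_CInt
import Mathlib.AlgebraicGeometry.Morphisms.SchemeTheoreticallyDominant
import Mathlib.AlgebraicGeometry.Morphisms.Etale
import Mathlib.AlgebraicGeometry.Noetherian

/-!
# Aligned monomorphisms into schemes with the weak Néron mapping property are separated
-/

set_option autoImplicit false
set_option backward.isDefEq.respectTransparency false
set_option backward.isDefEq.respectTransparency.types false

universe u

open CategoryTheory CategoryTheory.Limits AlgebraicGeometry TopologicalSpace MonoidalCategory CartesianMonoidalCategory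
  MonObj GrpObj

namespace Groth.Agent.Aligned

theorem isClosedImmersion_unit {S : Scheme.{u}} [IsLocallyNoetherian S] (S₀ : S.Opens) {H : Scheme.{u}}
    (q : H ⟶ S) [LocallyOfFiniteType q] (s : S ⟶ H) (hs : s ≫ q = 𝟙 S) [IsSeparated (pullback.snd q S₀.ι)]
    (G : Over S) (hG : ∀ U : Over S, Etale U.hom → Function.Injective (fun g : U ⟶ G => (Over.pullback S₀.ι).map g))
    (j : Over.mk q ⟶ G) [Mono j.left] (hal : Etale (s.ker.subschemeι ≫ q)) : IsClosedImmersion s := by
  haveI : IsLocallyNoetherian H := LocallyOfFiniteType.isLocallyNoetherian q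
  haveI : IsImmersion (s ≫ q) := by rw [hs]; infer_instance
  haveI : IsImmersion s := IsImmersion.of_comp s q
  haveI : QuasiCompact s := by
    rw [← s.liftCoborder_ι]
    infer_instance
  let z := s.ker.subschemeι
  let t : S ⟶ s.ker.subscheme := s.toImage
  haveI : IsSchemeTheoreticallyDominant t := Triage.SchDense.isSchemeTheoreticallyDominant_toImage s
  haveI : QuasiCompact t := inferInstance
  have htz : t ≫ z = s := s.toImage_imageι
  have htq : t ≫ (z ≫ q) = 𝟙 S := by rw [← Category.assoc, htz, hs]
  -- the part over the dense open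
  let P := pullback (z ≫ q) S₀.ι
  let g : P ⟶ pullback q S₀.ι :=
    pullback.lift (pullback.fst _ _ ≫ z) (pullback.snd _ _) (by rw [Category.assoc, pullback.condition])
  have hgpb : IsPullback (pullback.fst (z ≫ q) S₀.ι) g z (pullback.fst q S₀.ι) := by
    refine IsPullback.of_bot ?_ (by rw [pullback.lift_fst]) (IsPullback.of_hasPullback q S₀.ι)
    simpa only [g, pullback.lift_snd] using IsPullback.of_hasPullback (z ≫ q) S₀.ι
  haveI : IsClosedImmersion g := MorphismProperty.of_isPullback hgpb inferInstance
  haveI : IsSeparated (pullback.snd (z ≫ q) S₀.ι) := by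
    rw [show pullback.snd (z ≫ q) S₀.ι = g ≫ pullback.snd q S₀.ι from (pullback.lift_snd _ _ _).symm]
    infer_instance
  let u : S₀.toScheme ⟶ P := pullback.lift (S₀.ι ≫ t) (𝟙 _) (by rw [Category.assoc, htq]; simp)
  haveI : IsClosedImmersion (u ≫ pullback.snd (z ≫ q) S₀.ι) := by rw [pullback.lift_snd]; infer_instance
  haveI : IsClosedImmersion u := IsClosedImmersion.of_comp u (pullback.snd (z ≫ q) S₀.ι)
  have hu : IsPullback S₀.ι u t (pullback.fst (z ≫ q) S₀.ι) := by
    refine IsPullback.of_bot ?_ (by rw [pullback.lift_fst]) (IsPullback.of_hasPullback (z ≫ q) S₀.ι)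
    rw [htq, pullback.lift_snd]
    exact IsPullback.of_vert_isIso ⟨by simp⟩
  haveI : IsSchemeTheoreticallyDominant u := by
    have h : u = hu.isoPullback.hom ≫ pullback.snd t (pullback.fst (z ≫ q) S₀.ι) := hu.isoPullback_hom_snd.symm
    rw [h]
    infer_instance
  haveI : IsIso u := (IsClosedImmersion.isIso_iff_ker_eq_bot).2 u.ker_eq_bot
  have hab : pullback.fst (z ≫ q) S₀.ι ≫ z = pullback.fst (z ≫ q) S₀.ι ≫ (z ≫ q) ≫ s := by
    rw [← cancel_epi u, ← Category.assoc, ← Category.assoc, pullback.lift_fst, Category.assoc, htz,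
      Category.assoc S₀.ι t, ← Category.assoc t, htq, Category.id_comp]
  -- the mapping property
  let U : Over S := Over.mk (z ≫ q)
  let a : U ⟶ Over.mk q := Over.homMk z rfl
  let b : U ⟶ Over.mk q := Over.homMk ((z ≫ q) ≫ s) (by
    show ((z ≫ q) ≫ s) ≫ q = z ≫ q
    rw [Category.assoc, hs, Category.comp_id])
  have hjab : a ≫ j = b ≫ j := hG U hal (by
    refine Over.OverMorphism.ext (pullback.hom_ext ?_ ?_)
    · simp only [Over.pullback_map_left, pullback.lift_fst]
      show pullback.fst (z ≫ q) S₀.ι ≫ z ≫ j.left = pullback.fst (z ≫ q) S₀.ι ≫ ((z ≫ q) ≫ s) ≫ j.left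
      rw [← Category.assoc, hab, Category.assoc]
    · simp only [Over.pullback_map_left, pullback.lift_snd])
  have hz : z = (z ≫ q) ≫ s := (cancel_mono j.left).1 (congrArg CommaMorphism.left hjab)
  haveI : IsIso t := ⟨z ≫ q, htq, by rw [← cancel_mono z, Category.assoc, htz, Category.id_comp, ← hz]⟩
  rw [← htz]
  infer_instance

end Groth.Agent.Aligned
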